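import Cfsg.Agent.KantorSeitz.PSUTorus

/-!
# Elements of order `2 r` and `3 r` in `PSU(3, 2 ^ n)`

For a prime `r ≠ 3` dividing `2 ^ n + 1` the group `PSU 3 F (2 ^ n)` has elements of order `2 r` and `3 r`.
-/

set_option autoImplicit false
set_option linter.unusedSimpArgs false

namespace Cfsg.Agent.H964.PSUThree

open Matrix Cfsg Cfsg.Agent.KantorSeitz.PSUTorus

variable {F : Type*} [Field F]

/-- an element of order 3 of the block `SU(2, q)` -/
def trp (z z' l : F) : Matrix (Fin 3) (Fin 3) F := !![l * z, 1 + l, 0; 1 + l, l * z', 0; 0, 0, 1]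

theorem dg_mul_trp (a b z z' l : F) : dg a b * trp z z' l = trp z z' l * dg a b := by
  ext i j
  fin_cases i <;> fin_cases j <;> simp [trp, dg, Matrix.mul_apply, Fin.sum_univ_three] <;> ring

theorem det_trp [CharP F 2] {z z' l : F} (hz : z * z' = 1) : (trp z z' l).det = 1 := by
  have h2 : (2 : F) = 0 := CharP.cast_eq_zero F 2
  rw [Matrix.det_fin_three]
  simp [trp]
  linear_combination (l ^ 2) * hz + (-l - 1) * h2

theorem trp_cube [CharP F 2] {z z' l : F} (hz : z * z' = 1) (hl : l * (z + z') = 1) :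
    trp z z' l * trp z z' l * trp z z' l = 1 := by
  have h2 : (2 : F) = 0 := CharP.cast_eq_zero F 2
  have hA : l * z' = 1 - l * z := by linear_combination hl
  have hB : l * z * (1 - l * z) = l ^ 2 := by
    rw [← hA]
    linear_combination l ^ 2 * hz
  have e : trp z z' l = !![l * z, 1 + l, 0; 1 + l, 1 - l * z, 0; 0, 0, 1] := by
    rw [trp, hA]
  rw [e]
  clear e
  generalize l * z = x at hA hB
  ext i j
  fin_cases i <;> fin_cases j <;>
    simp [Matrix.mul_apply, Fin.sum_univ_three]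
  · linear_combination (-(x + 1)) * hB + (x + l * (x + 1)) * h2
  · linear_combination (-(1 + l)) * hB + (1 + l) * (l + 1) * h2
  · linear_combination (-(1 + l)) * hB + (1 + l) * (l + 1) * h2
  · linear_combination (-((1 - x) + 1)) * hB + ((1 - x) + l * ((1 - x) + 1)) * h2

theorem trp_mem [CharP F 2] (n : ℕ) {z l : F} (hz : z * z ^ 2 ^ n = 1)
    (hzq : (z ^ 2 ^ n) ^ 2 ^ n = z) (hl : l ^ 2 ^ n = l) (h : (trp z (z ^ 2 ^ n) l).det = 1) :
    (⟨trp z (z ^ 2 ^ n) l, h⟩ : SpecialLinearGroup (Fin 3) F) ∈ SU 3 F (2 ^ n) := by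
  intro u v
  have h2 : (2 : F) = 0 := CharP.cast_eq_zero F 2
  change hermForm 3 F (2 ^ n) (trp z (z ^ 2 ^ n) l *ᵥ u) (trp z (z ^ 2 ^ n) l *ᵥ v) =
    hermForm 3 F (2 ^ n) u v
  rw [herm_three, herm_three]
  simp only [trp, Matrix.mulVec, dotProduct, Fin.sum_univ_three]
  simp only [Matrix.of_apply, Matrix.cons_val', Matrix.cons_val_zero, Matrix.cons_val_one,
    Matrix.cons_val_two, Matrix.head_cons, Matrix.tail_cons, Matrix.cons_val_fin_one,
    Matrix.head_fin_const, Matrix.cons_val]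
  simp only [add_pow_char_pow, mul_pow, one_pow, hl, zero_mul, add_zero, zero_add, one_mul, hzq]
  generalize z ^ 2 ^ n = w at *
  generalize u 0 = a
  generalize u 1 = b
  generalize v 0 ^ 2 ^ n = c
  generalize v 1 ^ 2 ^ n = d
  linear_combination (l ^ 2 * (a * c + b * d)) * hz +
    ((a * c + b * d) * (l ^ 2 + l) + (l + l ^ 2) * (z * a * d + b * w * c)) * h2

/-- the element of order 3 in `SU` -/
def trpS [CharP F 2] (n : ℕ) (z l : F) (hz : z * z ^ 2 ^ n = 1) (hzq : (z ^ 2 ^ n) ^ 2 ^ n = z)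
    (hl : l ^ 2 ^ n = l) : SU 3 F (2 ^ n) :=
  ⟨⟨trp z (z ^ 2 ^ n) l, det_trp hz⟩, trp_mem n hz hzq hl _⟩

theorem trpS_not_mem [CharP F 2] (n : ℕ) {z l : F} (hz : z * z ^ 2 ^ n = 1)
    (hzq : (z ^ 2 ^ n) ^ 2 ^ n = z) (hl : l ^ 2 ^ n = l) (hz1 : z ≠ 1) :
    trpS n z l hz hzq hl ∉ Subgroup.center (SU 3 F (2 ^ n)) := by
  intro h
  have h1 := Subgroup.mem_center_iff.1 h (swS (2 ^ n))
  have h2 : (sw * trp z (z ^ 2 ^ n) l : Matrix (Fin 3) (Fin 3) F) = trp z (z ^ 2 ^ n) l * sw :=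
    congrArg (fun x : SU 3 F (2 ^ n) => ((x : SpecialLinearGroup (Fin 3) F) :
      Matrix (Fin 3) (Fin 3) F)) h1
  have h3 := congrFun (congrFun h2 0) 1
  have h4 := congrFun (congrFun h2 0) 2
  simp [sw, trp, Matrix.mul_apply, Fin.sum_univ_three] at h3 h4
  have h5 : l = 1 := by
    have h6 : (1 : F) + l = 0 := h3.symm
    have h7 : (2 : F) = 0 := CharP.cast_eq_zero F 2
    linear_combination h6 - h7
  rw [h5, one_mul] at h4
  exact hz1 h4.symm

theorem dgS_not_mem [CharP F 2] (q : ℕ) {a b : F} (ha : a * a ^ q = 1) (hb : b * b ^ q = 1)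
    (h : (dg a b).det = 1) (hab : a ≠ b) :
    (⟨⟨dg a b, h⟩, dg_mem q ha hb h⟩ : SU 3 F q) ∉ Subgroup.center (SU 3 F q) := by
  intro h
  have h1 := Subgroup.mem_center_iff.1 h (swS q)
  have h2 : (sw * dg a b : Matrix (Fin 3) (Fin 3) F) = dg a b * sw :=
    congrArg (fun x : SU 3 F q => ((x : SpecialLinearGroup (Fin 3) F) :
      Matrix (Fin 3) (Fin 3) F)) h1
  have h4 := congrFun (congrFun h2 0) 2
  simp [sw, dg, Matrix.mul_apply, Fin.sum_univ_three] at h4
  exact hab h4.symm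

/-- In `PSU(3, 2 ^ n)`, a prime `r ≠ 3` dividing `2 ^ n + 1` gives elements of order `2 r` and `3 r`. -/
theorem exists_order {F : Type*} [Field F] [Fintype F] {n : ℕ} (hn : n ≠ 0)
    (hF : Fintype.card F = (2 ^ n) ^ 2) {r : ℕ} (hr : r.Prime) (hr3 : r ≠ 3) (hrq : r ∣ 2 ^ n + 1) :
    (∃ g : PSU 3 F (2 ^ n), orderOf g = 2 * r) ∧ (∃ g : PSU 3 F (2 ^ n), orderOf g = 3 * r) := by
  classical
  -- characteristic two
  have hchar : CharP F 2 := by
    obtain ⟨p, hp⟩ := CharP.exists F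
    obtain ⟨m, hpp, hm⟩ := FiniteField.card F p
    have h2 : p ∣ 2 := by
      have h3 : p ∣ (2 ^ n) ^ 2 := by
        rw [← hF, hm]
        exact dvd_pow_self p m.pos.ne'
      rw [← pow_mul] at h3
      exact hpp.dvd_of_dvd_pow h3
    have h3 := (Nat.prime_dvd_prime_iff_eq hpp Nat.prime_two).1 h2
    rw [← h3]
    exact hp
  have h2F : (2 : F) = 0 := CharP.cast_eq_zero F 2
  have hr2 : r ≠ 2 := by
    rintro rfl
    have : 2 ∣ 2 ^ n := dvd_pow_self 2 hn
    omega
  set q := 2 ^ n with hq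
  have hq1 : 1 ≤ q := Nat.one_le_two_pow
  have hcardU : Fintype.card Fˣ = (q + 1) * (q - 1) := by
    rw [Fintype.card_units, hF]
    have h1 : q ^ 2 = q * q := pow_two q
    rw [h1, Nat.add_mul, Nat.mul_sub, one_mul, mul_one]
    have h2 : q ≤ q * q := Nat.le_mul_self q
    omega
  have hfrob : ∀ x : F, (x ^ q) ^ q = x := fun x => by
    rw [← pow_mul, ← pow_two, ← hF]; exact FiniteField.pow_card x
  -- an element of order `r`
  obtain ⟨γ, hγ⟩ := IsCyclic.exists_ofOrder_eq_natCard (α := Fˣ)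
  rw [Nat.card_eq_fintype_card, hcardU] at hγ
  obtain ⟨m, hm⟩ := hrq
  have hq2 : 2 ≤ q := by
    rw [hq]
    calc 2 = 2 ^ 1 := by norm_num
      _ ≤ 2 ^ n := Nat.pow_le_pow_right (by norm_num) (by omega)
  have hm0 : 0 < m := by
    rcases Nat.eq_zero_or_pos m with h | h
    · rw [h] at hm
      omega
    · exact h
  let α : Fˣ := γ ^ (m * (q - 1))
  have hα : orderOf α = r := by
    have h1 : orderOf (γ ^ (m * (q - 1))) = orderOf γ / (m * (q - 1)) := by
      refine orderOf_pow_of_dvd ?_ ?_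
      · exact (Nat.mul_pos hm0 (by omega)).ne'
      · rw [hγ, hm, mul_assoc]
        exact dvd_mul_left _ _
    rw [hγ, hm, mul_assoc, Nat.mul_div_cancel _ (Nat.mul_pos hm0 (by omega))] at h1
    exact h1
  have hαr : α ^ r = 1 := by rw [← hα]; exact pow_orderOf_eq_one α
  have hα1 : α ^ (q + 1) = 1 := by rw [hm, pow_mul, hαr, one_pow]
  have hα3 : α ^ 3 ≠ 1 := by
    intro h
    have h1 := orderOf_dvd_of_pow_eq_one h
    rw [hα] at h1
    exact hr3 ((Nat.prime_dvd_prime_iff_eq hr Nat.prime_three).1 h1)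
  have hα1' : (α : F) ^ (q + 1) = 1 := by
    have := congrArg (fun x : Fˣ => (x : F)) hα1
    simpa using this
  have hαr' : (α : F) ^ r = 1 := by
    have := congrArg (fun x : Fˣ => (x : F)) hαr
    simpa using this
  set a : F := (α : F) with ha
  have ha0 : a ≠ 0 := Units.ne_zero α
  set b : F := (a⁻¹) ^ 2 with hb
  have hab : a * a * b = 1 := by
    rw [hb]
    field_simp
  have haq : a * a ^ q = 1 := by rw [← hα1', pow_succ, mul_comm]
  have hbq : b * b ^ q = 1 := by
    have h1 : b ^ (q + 1) = 1 := by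
      rw [hb, ← pow_mul, mul_comm, pow_mul, inv_pow, hα1', inv_one, one_pow]
    rw [← h1, pow_succ, mul_comm]
  have hbr : b ^ r = 1 := by
    rw [hb, ← pow_mul, mul_comm, pow_mul, inv_pow, hαr', inv_one, one_pow]
  have hne : a ≠ b := by
    intro h
    apply hα3
    apply Units.ext
    have h1 : a * a * a = 1 := by
      conv_lhs => rw [mul_assoc, mul_comm]
      rw [← hab]
      conv_rhs => rw [← h]
    change ((α ^ 3 : Fˣ) : F) = 1
    rw [Units.val_pow_eq_pow_val, ← ha, ← h1]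
    ring
  have ha1 : a ≠ 1 := by
    intro h
    apply hne
    rw [hb, h, inv_one, one_pow]
  have hdg : ∀ k : ℕ, dg a b ^ k = dg (a ^ k) (b ^ k) := by
    intro k
    induction k with
    | zero => rw [pow_zero, pow_zero, pow_zero, dg_one]
    | succ k ih => rw [pow_succ, ih, dg_mul, ← pow_succ, ← pow_succ]
  have hdet : (dg a b).det = 1 := by rw [det_dg, hab]
  let gS : SU 3 F q := ⟨⟨dg a b, hdet⟩, dg_mem q haq hbq _⟩
  have hgr : gS ^ r = 1 := by
    apply Subtype.ext
    apply Subtype.ext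
    have h1 : (((gS ^ r : SU 3 F q) : SpecialLinearGroup (Fin 3) F) : Matrix (Fin 3) (Fin 3) F) =
        dg a b ^ r := by
      rw [SubgroupClass.coe_pow]
      exact Matrix.SpecialLinearGroup.coe_pow _ _
    rw [hdg, hαr', hbr, dg_one] at h1
    exact h1
  have hgc : gS ∉ Subgroup.center (SU 3 F q) := dgS_not_mem q haq hbq hdet hne
  let π := QuotientGroup.mk' (Subgroup.center (SU 3 F q))
  have hπ : ∀ x : SU 3 F q, π x = 1 ↔ x ∈ Subgroup.center (SU 3 F q) := fun x =>
    QuotientGroup.eq_one_iff x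
  have hog : orderOf (π gS) = r := by
    have : Fact r.Prime := ⟨hr⟩
    refine orderOf_eq_prime ?_ ?_
    · rw [← map_pow, hgr, map_one]
    · rw [Ne, hπ]
      exact hgc
  have key : ∀ (s : ℕ) (x : SU 3 F q), s.Prime → s ≠ r → gS * x = x * gS → x ^ s = 1 →
      x ∉ Subgroup.center (SU 3 F q) → ∃ g : PSU 3 F q, orderOf g = s * r := by
    intro s x hs hsr hcomm hxs hx
    have hox : orderOf (π x) = s := by
      have : Fact s.Prime := ⟨hs⟩
      refine orderOf_eq_prime ?_ ?_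
      · rw [← map_pow, hxs, map_one]
      · rw [Ne, hπ]
        exact hx
    refine ⟨π x * π gS, ?_⟩
    have hc : Commute (π x) (π gS) := by
      have h1 : π (gS * x) = π (x * gS) := by rw [hcomm]
      rw [map_mul, map_mul] at h1
      exact h1.symm
    rw [hc.orderOf_mul_eq_mul_orderOf_of_coprime, hox, hog]
    rw [hox, hog]
    exact (Nat.coprime_primes hs hr).2 hsr
  constructor
  · have h1 : (1 : F) ^ 2 ^ n = 1 := one_pow _
    refine key 2 (tvS n 1 h1) Nat.prime_two (Ne.symm hr2) ?_ ?_ (tvS_not_mem n h1 one_ne_zero)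
    · exact Subtype.ext (Subtype.ext (dg_mul_tv a b 1))
    · rw [pow_two, tvS_sq]
  · -- the element of order 3
    have hw : a ^ q * a ^ q * a * a = 1 := by
      calc a ^ q * a ^ q * a * a = (a * a ^ q) * (a * a ^ q) := by ring
        _ = 1 := by rw [haq, one_mul]
    have hsum : a + a ^ q ≠ 0 := by
      intro h
      have h3 : a ^ q = a := by linear_combination h - a * h2F
      rw [h3] at haq
      apply ha1
      have h4 : (a - 1) ^ 2 = 0 := by linear_combination haq + (1 - a) * h2F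
      have h5 : a - 1 = 0 := by simpa using h4
      linear_combination h5
    set l : F := (a + a ^ q)⁻¹ with hl
    have hlq : l ^ 2 ^ n = l := by
      rw [hl, inv_pow, add_pow_char_pow, ← hq, hfrob, add_comm]
    have hll : l * (a + a ^ q) = 1 := inv_mul_cancel₀ hsum
    have hzq : (a ^ 2 ^ n) ^ 2 ^ n = a := hfrob a
    refine key 3 (trpS n a l haq hzq hlq) Nat.prime_three (Ne.symm hr3) ?_ ?_
      (trpS_not_mem n haq hzq hlq ha1)
    · exact Subtype.ext (Subtype.ext (dg_mul_trp a b _ _ _))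
    · apply Subtype.ext
      apply Subtype.ext
      rw [pow_succ, pow_two]
      exact trp_cube haq hll

end Cfsg.Agent.H964.PSUThree
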